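import Groth.Agent.FibCrit.Scheme
import Groth.Agent.KFlat.Pullback
import Groth.Agent.FlatModBC.FlatAt
import Groth.Agent.FlatLimMod.Basic
import Groth.Agent.ConsEngine.Fiber
import Groth.Agent.S1391
import Groth.Agent.S1392
import Groth.Prelude.Def_FlatMod2

/-!
# Flatness of a module on the fibres over a base, in terms of stalks, and its behaviour under base change
-/

set_option autoImplicit false
set_option maxSynthPendingDepth 3
set_option linter.style.haveILetI false
set_option backward.isDefEq.respectTransparency false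

universe u

open CategoryTheory CategoryTheory.Limits AlgebraicGeometry TopologicalSpace TensorProduct IsLocalRing

noncomputable section

namespace Groth.Agent.ConsFibFlat

/-- Flatness over isomorphic rings. -/
theorem flat_iff_of_bijective {A B M : Type u} [CommRing A] [CommRing B] [Algebra A B] [AddCommGroup M] [Module A M]
    [Module B M] [IsScalarTower A B M] (h : Function.Bijective (algebraMap A B)) :
    Module.Flat A M ↔ Module.Flat B M := by
  haveI : Module.Flat A B := RingHom.flat_algebraMap_iff.1 (RingHom.Flat.of_bijective h)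
  refine ⟨fun hA => ?_, fun hB => Module.Flat.trans A B M⟩
  let e := RingEquiv.ofBijective (algebraMap A B) h
  letI : Algebra B A := e.symm.toRingHom.toAlgebra
  haveI : Module.Flat B A := RingHom.flat_algebraMap_iff.1 (RingHom.Flat.of_bijective e.symm.bijective)
  haveI : IsScalarTower B A M := IsScalarTower.of_algebraMap_smul fun b m => by
    obtain ⟨a, rfl⟩ := h.2 b
    show e.symm (algebraMap A B a) • m = _
    rw [show e.symm (algebraMap A B a) = a from e.symm_apply_apply a, algebraMap_smul]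
  exact Module.Flat.trans B A M

variable {X Y S : Scheme.{u}}

/-- The module is flat on the fibre at the point: the stalk modulo the maximal ideal of the base is flat. -/
def QFlat (f : X ⟶ Y) (h : Y ⟶ S) (F : X.Modules) (x : X) : Prop :=
  letI := FlatMod.moduleStalkOver f F x
  Module.Flat (↑(Y.presheaf.stalk (f x)) ⧸ Ideal.map (h.stalkMap (f x)).hom (maximalIdeal ↑(S.presheaf.stalk (h (f x)))))
    (↑(F.presheaf.stalk x) ⧸ (Ideal.map (h.stalkMap (f x)).hom (maximalIdeal ↑(S.presheaf.stalk (h (f x)))) •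
      (⊤ : Submodule ↑(Y.presheaf.stalk (f x)) ↑(F.presheaf.stalk x))))

theorem qflat_iff_fiberMap (f : X ⟶ Y) (h : Y ⟶ S) (F : X.Modules) (s : S) (z : ↥((f ≫ h).fiber s)) :
    QFlat f h F ((f ≫ h).fiberι s z) ↔ FlatMod.IsFlatOverAt (MoreMor.fiberMap f h s)
      ((Scheme.Modules.pullback ((f ≫ h).fiberι s)).obj F) z := by
  let ι := (f ≫ h).fiberι s
  let x := ι z
  let fs := MoreMor.fiberMap f h s
  let w := fs z
  have hw : h.fiberι s w = f x := by
    change (MoreMor.fiberMap f h s ≫ h.fiberι s) z = ((f ≫ h).fiberι s ≫ f) z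
    rw [FibCrit.fiberMap_fiberι]
  obtain ⟨-, hkA, hsA⟩ := FibCrit.ker_stalkCongr_comp h s w (f x) hw
  obtain ⟨hsB, hkB⟩ := FibCrit.fiberι_stalkMap (f ≫ h) s z
  let A := Y.presheaf.stalk (f x)
  let R := X.presheaf.stalk x
  let L := ((f ≫ h).fiber s).presheaf.stalk z
  let A' := (h.fiber s).presheaf.stalk w
  let N : Type u := F.presheaf.stalk x
  let T : Type u := ((Scheme.Modules.pullback ι).obj F).presheaf.stalk z
  let I : Ideal A := Ideal.map (h.stalkMap (f x)).hom (maximalIdeal (S.presheaf.stalk (h (f x))))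
  let φA := ((Y.presheaf.stalkCongr (.of_eq hw)).inv ≫ (h.fiberι s).stalkMap w).hom
  letI : Algebra R L := (ι.stalkMap z).hom.toAlgebra
  letI : Algebra A R := (f.stalkMap x).hom.toAlgebra
  letI : Algebra A' L := (fs.stalkMap z).hom.toAlgebra
  letI : Algebra (A ⧸ I) A' := (Ideal.Quotient.lift I φA fun a ha => by
    rw [← RingHom.mem_ker, hkA]; exact ha).toAlgebra
  letI := FlatMod.moduleStalkOver f F x
  haveI : IsScalarTower A R N := IsScalarTower.of_algebraMap_smul fun _ _ => rfl
  letI : Module A' T := FlatMod.moduleStalkOver fs ((Scheme.Modules.pullback ι).obj F) z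
  letI : Module (A ⧸ I) T := Module.compHom T (algebraMap (A ⧸ I) A')
  haveI : IsScalarTower (A ⧸ I) A' T := IsScalarTower.of_algebraMap_smul fun _ _ => rfl
  letI : Module R T := Module.compHom T (algebraMap R L)
  have hsq : (Y.presheaf.stalkCongr (.of_eq hw)).inv ≫ (h.fiberι s).stalkMap w ≫ fs.stalkMap z =
      f.stalkMap x ≫ ι.stalkMap z := by
    rw [← Scheme.Hom.stalkMap_comp, ← Scheme.Hom.stalkMap_comp,
      Scheme.Hom.stalkMap_congr_hom _ _ (FibCrit.fiberMap_fiberι f h s) z]
    simp [TopCat.Presheaf.stalkCongr_inv, TopCat.Presheaf.stalkCongr_hom]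
    exact Category.id_comp _
  have hbij : Function.Bijective (algebraMap (A ⧸ I) A') := by
    refine ⟨RingHom.lift_injective_of_ker_le_ideal I _ (le_of_eq hkA), fun b => ?_⟩
    obtain ⟨a, rfl⟩ := hsA b
    exact ⟨Ideal.Quotient.mk I a, rfl⟩
  show Module.Flat (A ⧸ I) (N ⧸ I • (⊤ : Submodule A N)) ↔ Module.Flat A' T
  rw [← flat_iff_of_bijective hbij]
  -- the stalk of the pullback
  let J : Ideal R := RingHom.ker (algebraMap R L)
  have hJ : J = I.map (algebraMap A R) := by
    show RingHom.ker _ = _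
    rw [show RingHom.ker (algebraMap R L) = _ from hkB, Ideal.map_map]
    show Ideal.map ((f ≫ h).stalkMap x).hom _ = _
    rw [Scheme.Hom.stalkMap_comp, CommRingCat.hom_comp]
    rfl
  let eL : (R ⧸ J) ≃ₗ[R] L :=
    (Ideal.quotientKerAlgEquivOfSurjective (f := Algebra.ofId R L) hsB).toLinearEquiv
  let eP : T ≃ₗ[L] L ⊗[R] N := ((KFlat.pullStalkIso ι z).app F).toLinearEquiv
  haveI : IsScalarTower R L T := IsScalarTower.of_algebraMap_smul fun _ _ => rfl
  let e : T ≃ₗ[R] N ⧸ J • (⊤ : Submodule R N) :=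
    (eP.restrictScalars R).trans ((TensorProduct.congr eL.symm (LinearEquiv.refl R N)).trans
      (TensorProduct.quotTensorEquivQuotSMul N J))
  have hle : I • (⊤ : Submodule A N) = (J • (⊤ : Submodule R N)).restrictScalars A := by
    refine le_antisymm (Submodule.smul_le.2 fun a ha n _ => ?_) fun n hn => ?_
    · show a • n ∈ J • (⊤ : Submodule R N)
      rw [← algebraMap_smul R a n]
      exact Submodule.smul_mem_smul (hJ ▸ Ideal.mem_map_of_mem _ ha) trivial
    · change n ∈ J • (⊤ : Submodule R N) at hn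
      refine Submodule.smul_induction_on hn (fun r hr m _ => ?_) fun a b ha hb => add_mem ha hb
      rw [hJ] at hr
      induction hr using Submodule.span_induction generalizing m with
      | mem _ hm =>
        obtain ⟨a, ha, rfl⟩ := hm
        rw [algebraMap_smul]
        exact Submodule.smul_mem_smul ha trivial
      | zero => rw [zero_smul]; exact zero_mem _
      | add p q _ _ hp hq => rw [add_smul]; exact add_mem (hp m trivial) (hq m trivial)
      | smul c q _ hq => rw [smul_eq_mul, mul_comm, mul_smul]; exact hq _ trivial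
  have key : ∀ (a : A) (t : T), (Ideal.Quotient.mk I a) • t = (algebraMap A R a) • t := fun a t => by
    show ((fs.stalkMap z).hom (φA a)) • (show T from t) = ((ι.stalkMap z).hom ((f.stalkMap x).hom a)) • (show T from t)
    exact congrArg (fun r => r • t) (congr($(hsq).hom a))
  let eA : T ≃+ N ⧸ I • (⊤ : Submodule A N) := e.toAddEquiv.trans
    (((Submodule.Quotient.restrictScalarsEquiv A (J • (⊤ : Submodule R N))).symm.trans
      (Submodule.quotEquivOfEq _ _ hle.symm)).toAddEquiv)
  let e' : T ≃ₗ[A ⧸ I] N ⧸ I • (⊤ : Submodule A N) :=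
    { eA with
      map_smul' := fun q t => by
        obtain ⟨a, rfl⟩ := Ideal.Quotient.mk_surjective q
        show eA ((Ideal.Quotient.mk I a) • t) = (Ideal.Quotient.mk I a) • eA t
        rw [key]
        show Submodule.quotEquivOfEq _ _ hle.symm ((Submodule.Quotient.restrictScalarsEquiv A _).symm
          (e ((algebraMap A R a) • t))) = a • Submodule.quotEquivOfEq _ _ hle.symm
            ((Submodule.Quotient.restrictScalarsEquiv A _).symm (e t))
        rw [map_smul, algebraMap_smul, map_smul, map_smul] }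
  exact ⟨fun hf => @Module.Flat.of_linearEquiv _ _ _ _ _ _ _ _ hf e',
    fun hf => @Module.Flat.of_linearEquiv _ _ _ _ _ _ _ _ hf e'.symm⟩

/-- Flatness at a point of the fibre is insensitive to a flat change of the fibre over which the square is cartesian. -/
theorem isFlatOverAt_fibre_iff {Xs Ys Xs' Ys' : Scheme.{u}} {fs : Xs ⟶ Ys} {fs' : Xs' ⟶ Ys'} {a : Xs' ⟶ Xs}
    {b : Ys' ⟶ Ys} [Flat b] (sq : IsPullback a fs' fs b) {G : Xs.Modules} (hG : Coh.IsQCoh G) {G' : Xs'.Modules}
    (e : (Scheme.Modules.pullback a).obj G ≅ G') (z : Xs') :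
    FlatMod.IsFlatOverAt fs' G' z ↔ FlatMod.IsFlatOverAt fs G (a z) :=
  ⟨fun hz => S1392.result fs fs' a b sq G hG z (Flat.stalkMap b (fs' z)) (FlatLimMod.isFlatOverAt_of_iso fs' e.symm hz),
    fun hz => FlatLimMod.isFlatOverAt_of_iso fs' e (S1391.result fs fs' a b sq G hG z hz)⟩

/-- Fibre squares: flatness on any model of the fibre is the condition on stalks. -/
theorem qflat_iff_of_isPullback (f : X ⟶ Y) (h : Y ⟶ S) (F : X.Modules) [Coh.IsQCoh F] (s : S) {Xs Ys : Scheme.{u}}
    {ιX : Xs ⟶ X} {ιY : Ys ⟶ Y} {fs : Xs ⟶ Ys} {pY : Ys ⟶ Spec (S.residueField s)}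
    (hY : IsPullback ιY pY h (S.fromSpecResidueField s)) (hX : IsPullback ιX fs f ιY) (z : Xs) :
    QFlat f h F (ιX z) ↔ FlatMod.IsFlatOverAt fs ((Scheme.Modules.pullback ιX).obj F) z := by
  let cY : IsPullback (h.fiberι s) (h.fiberToSpecResidueField s) h (S.fromSpecResidueField s) :=
    IsPullback.of_hasPullback h (S.fromSpecResidueField s)
  have cX : IsPullback ((f ≫ h).fiberι s) (MoreMor.fiberMap f h s) f (h.fiberι s) :=
    ConsEngine.isPullback_fiberMap f h s
  let b := hY.isoIsPullback _ _ cY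
  have hb : b.hom ≫ h.fiberι s = ιY := hY.isoIsPullback_hom_fst _ _ cY
  have hX' : IsPullback ιX (fs ≫ b.hom) f (h.fiberι s) :=
    hX.of_iso (Iso.refl _) (Iso.refl _) b (Iso.refl _) (by simp) (by simp) (by simp) (by simp [hb])
  let a := hX'.isoIsPullback _ _ cX
  have ha1 : a.hom ≫ (f ≫ h).fiberι s = ιX := hX'.isoIsPullback_hom_fst _ _ cX
  have ha2 : a.hom ≫ MoreMor.fiberMap f h s = fs ≫ b.hom := hX'.isoIsPullback_hom_snd _ _ cX
  have sq : IsPullback a.hom fs (MoreMor.fiberMap f h s) b.hom := IsPullback.of_horiz_isIso ⟨ha2⟩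
  rw [isFlatOverAt_fibre_iff sq (Groth.Agent.QC.isQCoh_pullback _ ‹_›)
    ((Scheme.Modules.pullbackComp a.hom ((f ≫ h).fiberι s)).app F ≪≫ (Scheme.Modules.pullbackCongr ha1).app F) z,
    ← qflat_iff_fiberMap]
  rw [← ha1]
  rfl

variable {X' Y' S' : Scheme.{u}}

/-- Change of the base. -/
theorem qflat_baseChange {f : X ⟶ Y} {h : Y ⟶ S} {f' : X' ⟶ Y'} {h' : Y' ⟶ S'} {qX : X' ⟶ X} {qY : Y' ⟶ Y}
    {qS : S' ⟶ S} (hX : IsPullback qX f' f qY) (hY : IsPullback qY h' h qS) (F : X.Modules) [Coh.IsQCoh F]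
    {F' : X'.Modules} (e : (Scheme.Modules.pullback qX).obj F ≅ F') (x' : X') :
    QFlat f' h' F' x' ↔ QFlat f h F (qX x') := by
  haveI : Coh.IsQCoh ((Scheme.Modules.pullback qX).obj F) := Groth.Agent.QC.isQCoh_pullback _ ‹_›
  let s' := h' (f' x')
  obtain ⟨z', hz'⟩ : x' ∈ Set.range ((f' ≫ h').fiberι s') := by
    rw [Scheme.Hom.range_fiberι]; rfl
  let ρ := Spec.map (qS.residueFieldMap s')
  have hρ : ρ ≫ S.fromSpecResidueField (qS s') = S'.fromSpecResidueField s' ≫ qS :=
    Scheme.Hom.SpecMap_residueFieldMap_fromSpecResidueField qS s'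
  haveI : Flat ρ := by
    rw [Flat.SpecMap_iff]
    letI := (qS.residueFieldMap s').hom.toAlgebra
    letI : Field (S.residueField (qS s')) := inferInstance
    exact inferInstanceAs (Module.Flat (S.residueField (qS s')) (S'.residueField s'))
  let cY : IsPullback (h.fiberι (qS s')) (h.fiberToSpecResidueField (qS s')) h (S.fromSpecResidueField (qS s')) :=
    IsPullback.of_hasPullback h _
  let cY' : IsPullback (h'.fiberι s') (h'.fiberToSpecResidueField s') h' (S'.fromSpecResidueField s') :=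
    IsPullback.of_hasPullback h' _
  have cX : IsPullback ((f ≫ h).fiberι (qS s')) (MoreMor.fiberMap f h (qS s')) f (h.fiberι (qS s')) :=
    ConsEngine.isPullback_fiberMap f h _
  have cX' : IsPullback ((f' ≫ h').fiberι s') (MoreMor.fiberMap f' h' s') f' (h'.fiberι s') :=
    ConsEngine.isPullback_fiberMap f' h' _
  have hYbig : IsPullback (h'.fiberι s' ≫ qY) (h'.fiberToSpecResidueField s') h (ρ ≫ S.fromSpecResidueField (qS s')) := by
    rw [hρ]; exact cY'.paste_horiz hY
  let b : h'.fiber s' ⟶ h.fiber (qS s') := cY.lift (h'.fiberι s' ≫ qY) (h'.fiberToSpecResidueField s' ≫ ρ) (by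
    rw [Category.assoc]; exact hYbig.w)
  have hb1 : b ≫ h.fiberι (qS s') = h'.fiberι s' ≫ qY := cY.lift_fst _ _ _
  have hbsq : IsPullback b (h'.fiberToSpecResidueField s') (h.fiberToSpecResidueField (qS s')) ρ :=
    IsPullback.of_right (by rw [hb1]; exact hYbig) (cY.lift_snd _ _ _) cY
  haveI : Flat b := MorphismProperty.of_isPullback hbsq.flip ‹Flat ρ›
  have hXbig : IsPullback ((f' ≫ h').fiberι s' ≫ qX) (MoreMor.fiberMap f' h' s') f (b ≫ h.fiberι (qS s')) := by
    rw [hb1]; exact cX'.paste_horiz hX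
  let a : (f' ≫ h').fiber s' ⟶ (f ≫ h).fiber (qS s') := cX.lift ((f' ≫ h').fiberι s' ≫ qX)
    (MoreMor.fiberMap f' h' s' ≫ b) (by rw [Category.assoc]; exact hXbig.w)
  have ha1 : a ≫ (f ≫ h).fiberι (qS s') = (f' ≫ h').fiberι s' ≫ qX := cX.lift_fst _ _ _
  have sq : IsPullback a (MoreMor.fiberMap f' h' s') (MoreMor.fiberMap f h (qS s')) b :=
    IsPullback.of_right (by rw [ha1]; exact hXbig) (cX.lift_snd _ _ _) cX
  rw [← hz', qflat_iff_fiberMap, isFlatOverAt_fibre_iff sq (Groth.Agent.QC.isQCoh_pullback _ ‹_›)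
    ((Scheme.Modules.pullbackComp a ((f ≫ h).fiberι (qS s'))).app F ≪≫ (Scheme.Modules.pullbackCongr ha1).app F ≪≫
      ((Scheme.Modules.pullbackComp _ qX).app F).symm ≪≫ (Scheme.Modules.pullback _).mapIso e) z',
    ← qflat_iff_fiberMap, ← Scheme.Hom.comp_apply, ha1]
  rfl

/-- Restriction to an open of the middle scheme. -/
theorem qflat_openY {f : X ⟶ Y} (h : Y ⟶ S) {f' : X' ⟶ Y'} {qX : X' ⟶ X} {qY : Y' ⟶ Y} [IsOpenImmersion qY]
    (hX : IsPullback qX f' f qY) (F : X.Modules) [Coh.IsQCoh F] (x' : X') :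
    QFlat f' (qY ≫ h) ((Scheme.Modules.pullback qX).obj F) x' ↔ QFlat f h F (qX x') := by
  haveI : Coh.IsQCoh ((Scheme.Modules.pullback qX).obj F) := Groth.Agent.QC.isQCoh_pullback _ ‹_›
  let s := h (qY (f' x'))
  let cY : IsPullback (h.fiberι s) (h.fiberToSpecResidueField s) h (S.fromSpecResidueField s) :=
    IsPullback.of_hasPullback h _
  let Ps := pullback qY (h.fiberι s)
  have hP : IsPullback (pullback.fst qY (h.fiberι s)) (pullback.snd qY (h.fiberι s) ≫ h.fiberToSpecResidueField s)
      (qY ≫ h) (S.fromSpecResidueField s) := ((IsPullback.of_hasPullback qY (h.fiberι s)).paste_vert cY)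
  have cX : IsPullback ((f ≫ h).fiberι s) (MoreMor.fiberMap f h s) f (h.fiberι s) :=
    ConsEngine.isPullback_fiberMap f h s
  let Q := pullback f' (pullback.fst qY (h.fiberι s))
  have hQ : IsPullback (pullback.fst f' (pullback.fst qY (h.fiberι s))) (pullback.snd f' _) f' (pullback.fst qY (h.fiberι s)) :=
    IsPullback.of_hasPullback _ _
  have hbig : IsPullback (pullback.fst f' (pullback.fst qY (h.fiberι s)) ≫ qX) (pullback.snd f' _) f
      (pullback.snd qY (h.fiberι s) ≫ h.fiberι s) := by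
    rw [← pullback.condition]; exact hQ.paste_horiz hX
  let a : Q ⟶ (f ≫ h).fiber s := cX.lift (pullback.fst f' (pullback.fst qY (h.fiberι s)) ≫ qX)
    (pullback.snd f' _ ≫ pullback.snd qY (h.fiberι s)) (by rw [Category.assoc _ (pullback.snd qY _)]; exact hbig.w)
  have ha1 : a ≫ (f ≫ h).fiberι s = pullback.fst f' (pullback.fst qY (h.fiberι s)) ≫ qX := cX.lift_fst _ _ _
  have sq : IsPullback a (pullback.snd f' _) (MoreMor.fiberMap f h s) (pullback.snd qY (h.fiberι s)) :=
    IsPullback.of_right (by rw [ha1]; exact hbig) (cX.lift_snd _ _ _) cX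
  haveI : Flat (pullback.snd qY (h.fiberι s)) := inferInstance
  obtain ⟨w, hw⟩ : ∃ w : Q, pullback.fst f' (pullback.fst qY (h.fiberι s)) w = x' := by
    have : f' x' ∈ Set.range (pullback.fst qY (h.fiberι s)) := by
      rw [Scheme.Pullback.range_fst, Scheme.Hom.range_fiberι]; rfl
    have hx : x' ∈ Set.range (pullback.fst f' (pullback.fst qY (h.fiberι s))) := by
      rw [Scheme.Pullback.range_fst]; exact this
    exact hx
  rw [← hw]
  refine (qflat_iff_of_isPullback f' (qY ≫ h) _ s hP hQ w).trans ((isFlatOverAt_fibre_iff sq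
    (Groth.Agent.QC.isQCoh_pullback _ ‹_›)
      ((Scheme.Modules.pullbackComp a ((f ≫ h).fiberι s)).app F ≪≫ (Scheme.Modules.pullbackCongr ha1).app F ≪≫
        ((Scheme.Modules.pullbackComp _ qX).app F).symm) w).trans ?_)
  rw [← qflat_iff_fiberMap, ← Scheme.Hom.comp_apply, ha1]
  rfl

/-- Restriction to an open of the source. -/
theorem qflat_openX (f : X ⟶ Y) (h : Y ⟶ S) (j : X' ⟶ X) [IsOpenImmersion j] (F : X.Modules) [Coh.IsQCoh F] (x' : X') :
    QFlat (j ≫ f) h ((Scheme.Modules.pullback j).obj F) x' ↔ QFlat f h F (j x') := by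
  haveI : Coh.IsQCoh ((Scheme.Modules.pullback j).obj F) := Groth.Agent.QC.isQCoh_pullback _ ‹_›
  let s := h (f (j x'))
  let cY : IsPullback (h.fiberι s) (h.fiberToSpecResidueField s) h (S.fromSpecResidueField s) :=
    IsPullback.of_hasPullback h _
  have cX : IsPullback ((f ≫ h).fiberι s) (MoreMor.fiberMap f h s) f (h.fiberι s) :=
    ConsEngine.isPullback_fiberMap f h s
  let ι := (f ≫ h).fiberι s
  have hP : IsPullback (pullback.fst j ι) (pullback.snd j ι ≫ MoreMor.fiberMap f h s) (j ≫ f) (h.fiberι s) :=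
    (IsPullback.of_hasPullback j ι).paste_vert cX
  obtain ⟨w, hw⟩ : ∃ w : ↥(pullback j ι), pullback.fst j ι w = x' := by
    have : x' ∈ Set.range (pullback.fst j ι) := by
      rw [Scheme.Pullback.range_fst, Scheme.Hom.range_fiberι]; rfl
    exact this
  haveI : Flat (pullback.snd j ι) := inferInstance
  let e : (Scheme.Modules.pullback (pullback.snd j ι)).obj ((Scheme.Modules.pullback ι).obj F) ≅
      (Scheme.Modules.pullback (pullback.fst j ι)).obj ((Scheme.Modules.pullback j).obj F) :=
    (Scheme.Modules.pullbackComp (pullback.snd j ι) ι).app F ≪≫ (Scheme.Modules.pullbackCongr pullback.condition.symm).app F ≪≫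
      ((Scheme.Modules.pullbackComp (pullback.fst j ι) j).app F).symm
  rw [← hw, qflat_iff_of_isPullback (j ≫ f) h _ s cY hP w, ← Scheme.Hom.comp_apply, pullback.condition,
    Scheme.Hom.comp_apply, qflat_iff_fiberMap,
    S9350.result (pullback.snd j ι) (MoreMor.fiberMap f h s) _ (Groth.Agent.QC.isQCoh_pullback _ ‹_›) w
      (Flat.stalkMap (pullback.snd j ι) w)]
  exact ⟨FlatLimMod.isFlatOverAt_of_iso _ e.symm, FlatLimMod.isFlatOverAt_of_iso _ e⟩

end Groth.Agent.ConsFibFlat
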