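import Groth.Agent.ConsFibFlat.Noeth
import Groth.Agent.ModDesc.Descent
import Groth.Agent.ConsEngine.Model
import Groth.Agent.ConsEngine.SetProp
import Groth.Agent.LimDesc.Tower

/-!
# The fibrewise flat locus is constructible
-/

set_option autoImplicit false
set_option maxSynthPendingDepth 3
set_option linter.style.haveILetI false
set_option backward.isDefEq.respectTransparency false

universe u

open CategoryTheory CategoryTheory.Limits AlgebraicGeometry TopologicalSpace Topology

noncomputable section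

namespace Groth.Agent.ConsFibFlat

open LimModel LimDesc

/-- The fibrewise flat locus over an affine base. -/
theorem isLocallyConstructible_qflat_spec {A : Type u} [CommRing A] {X Y : Scheme.{u}} (f : X ⟶ Y)
    (h : Y ⟶ Spec (CommRingCat.of A)) [LocallyOfFinitePresentation h] [QuasiCompact h] [QuasiSeparated h]
    [LocallyOfFinitePresentation (f ≫ h)] [QuasiCompact (f ≫ h)] [QuasiSeparated (f ≫ h)] (F : X.Modules)
    [Coh.IsQCoh F] (hF : CohB1.IsFP F) : IsLocallyConstructible {x : X | QFlat f h F x} := by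
  haveI : IsCofiltered (FgSub A)ᵒᵖ := isCofiltered_op_of_isFiltered _
  haveI : ∀ i : (FgSub A)ᵒᵖ, CompactSpace ((fgDiagram A).obj i) := fun i => inferInstance
  haveI : ∀ i : (FgSub A)ᵒᵖ, QuasiSeparatedSpace ((fgDiagram A).obj i) := fun i => inferInstance
  haveI : @LocallyOfFinitePresentation Y (fgCone A).pt h := ‹LocallyOfFinitePresentation h›
  haveI : @QuasiCompact Y (fgCone A).pt h := ‹QuasiCompact h›
  haveI : @QuasiSeparated Y (fgCone A).pt h := ‹QuasiSeparated h›
  haveI : @LocallyOfFinitePresentation X (fgCone A).pt (f ≫ h) := ‹LocallyOfFinitePresentation (f ≫ h)›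
  haveI : @QuasiCompact X (fgCone A).pt (f ≫ h) := ‹QuasiCompact (f ≫ h)›
  haveI : @QuasiSeparated X (fgCone A).pt (f ≫ h) := ‹QuasiSeparated (f ≫ h)›
  obtain ⟨i, X₀, Y₀, f₀, g₀, qY, qX, p1, p2, p3, p4, p5, p6, hY, hX⟩ :=
    ConsEngine.exists_model_mor_cone (fgDiagram A) (fgCone A) (fgIsLimit A) f (h : Y ⟶ (fgCone A).pt)
  let D := fgDiagram A
  let c := fgCone A
  let a := f₀ ≫ g₀
  have hXY := isPullback_comp D g₀ c hY f₀ hX
  haveI : CompactSpace X₀ := QuasiCompact.compactSpace_of_compactSpace (f₀ ≫ g₀)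
  haveI : QuasiSeparatedSpace X₀ := quasiSeparatedSpace_of_quasiSeparated (f₀ ≫ g₀)
  haveI : CompactSpace ((tower D a).obj (Over.mk (𝟙 i))) := compactSpace_stage D a _
  haveI : QuasiSeparatedSpace ((tower D a).obj (Over.mk (𝟙 i))) := quasiSeparatedSpace_stage D a _
  haveI : Coh.IsQCoh (X := (towerCone D a c hXY).pt) F := ‹Coh.IsQCoh F›
  obtain ⟨k, -, G, hG, hGfp, ⟨e⟩⟩ := ModDesc.exists_descend (D := tower D a) (c := towerCone D a c hXY)
    (F := F) (isLimitTowerCone D a c hXY (fgIsLimit A)) hF (i₀ := Over.mk (𝟙 i))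
  have hYk := isPullback_proj D g₀ c hY k
  have hXk := isPullback_proj_stageMap D g₀ c hY f₀ hX k
  have hsY := isPullback_stage D g₀ k
  have hsX := isPullback_stage D a k
  haveI : IsNoetherianRing ↥(k.left.unop.1 : Subalgebra ℤ A) := by
    haveI : Algebra.FiniteType ℤ ↥(k.left.unop.1 : Subalgebra ℤ A) := (Subalgebra.fg_iff_finiteType _).mp k.left.unop.2
    exact Algebra.FiniteType.isNoetherianRing ℤ _
  let hk : stage D g₀ k ⟶ Spec (CommRingCat.of ↥(k.left.unop.1 : Subalgebra ℤ A)) := toStage D g₀ k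
  let fk : stage D a k ⟶ stage D g₀ k := stageMap D g₀ f₀ k
  haveI : LocallyOfFiniteType hk := by
    have : LocallyOfFinitePresentation (toStage D g₀ k) :=
      MorphismProperty.of_isPullback (P := @LocallyOfFinitePresentation) hsY p1
    exact (inferInstance : LocallyOfFiniteType (toStage D g₀ k))
  haveI : QuasiCompact hk := MorphismProperty.of_isPullback (P := @QuasiCompact) hsY p2
  have hcomp : fk ≫ hk = toStage D a k := stageMap_toStage D g₀ f₀ k
  haveI : LocallyOfFiniteType (fk ≫ hk) := by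
    rw [hcomp]
    have : LocallyOfFinitePresentation (toStage D a k) :=
      MorphismProperty.of_isPullback (P := @LocallyOfFinitePresentation) hsX p4
    exact (inferInstance : LocallyOfFiniteType (toStage D a k))
  haveI : QuasiCompact (fk ≫ hk) := by
    rw [hcomp]
    exact MorphismProperty.of_isPullback (P := @QuasiCompact) hsX p5
  haveI : Coh.IsQCoh (X := stage D a k) G := hG
  have h0 := (isConstructible_qflat_noetherian (A := CommRingCat.of ↥(k.left.unop.1 : Subalgebra ℤ A)) fk hk G hGfp).isLocallyConstructible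
  have heq : {x : X | QFlat f h F x} = proj D a c hXY k ⁻¹' {x | QFlat fk hk G x} :=
    Set.ext fun x => qflat_baseChange hXk hYk G e x
  rw [heq]
  exact ConsEngine.isLocallyConstructible_preimage _ h0

theorem isPullback_mono {P Y S' S : Scheme.{u}} (a : P ⟶ S') (i : S' ⟶ S) [Mono i] (g : P ⟶ S) (e : a ≫ i = g) :
    IsPullback (𝟙 P) a g i :=
  (IsPullback.of_vert_isIso_mono (fst := a) (snd := 𝟙 _) (f := i) (g := g) ⟨by rw [Category.id_comp, e]⟩).flip

/-- The fibrewise flat locus is locally constructible. -/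
theorem isLocallyConstructible_qflat {X Y S : Scheme.{u}} (f : X ⟶ Y) (h : Y ⟶ S) [LocallyOfFinitePresentation h]
    [LocallyOfFinitePresentation (f ≫ h)] (F : X.Modules) [Coh.IsQCoh F] (hF : CohB1.IsFP F) :
    IsLocallyConstructible {x : X | QFlat f h F x} := by
  have key : ∀ x : X, ∃ W : X.Opens, x ∈ W ∧
      IsLocallyConstructible (W.ι ⁻¹' {x : X | QFlat f h F x} : Set W.toScheme) := fun x => by
    obtain ⟨U, hU, hsU, -⟩ := exists_isAffineOpen_mem_and_subset (X := S) (x := h (f x)) (U := ⊤) trivial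
    obtain ⟨V, hV, hyV, hVU⟩ := exists_isAffineOpen_mem_and_subset (X := Y) (x := f x) (U := h ⁻¹ᵁ U) hsU
    obtain ⟨W, hW, hxW, hWV⟩ := exists_isAffineOpen_mem_and_subset (X := X) (x := x) (U := f ⁻¹ᵁ V) hyV
    refine ⟨W, hxW, ?_⟩
    let j := X.homOfLE (U := W) (V := f ⁻¹ᵁ V) hWV
    let fW := j ≫ (f ∣_ V)
    have hrange : Set.range (V.ι ≫ h) ⊆ Set.range hU.fromSpec := by
      rw [hU.range_fromSpec]
      rintro _ ⟨v, rfl⟩
      exact hVU v.2
    let hV' := IsOpenImmersion.lift hU.fromSpec (V.ι ≫ h) hrange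
    have e : hV' ≫ hU.fromSpec = V.ι ≫ h := IsOpenImmersion.lift_fac _ _ _
    have hYsq := isPullback_mono (Y := Y) hV' hU.fromSpec _ e
    haveI : IsAffine _ := hV
    haveI : IsAffine _ := hW
    haveI : LocallyOfFinitePresentation hV' :=
      MorphismProperty.of_isPullback hYsq (inferInstance : LocallyOfFinitePresentation (V.ι ≫ h))
    have hXsq : IsPullback (𝟙 _) fW fW (𝟙 _) := IsPullback.of_horiz_isIso ⟨by rw [Category.id_comp, Category.comp_id]⟩
    have e2 : fW ≫ V.ι ≫ h = W.ι ≫ f ≫ h := by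
      simp only [fW, j, Category.assoc, morphismRestrict_ι_assoc, Scheme.homOfLE_ι_assoc]
    haveI : LocallyOfFinitePresentation (fW ≫ hV') := by
      refine MorphismProperty.of_isPullback (hXsq.paste_vert hYsq) ?_
      rw [e2]
      infer_instance
    let F1 := (Scheme.Modules.pullback (f ⁻¹ᵁ V).ι).obj F
    let FW := (Scheme.Modules.pullback (𝟙 W.toScheme)).obj ((Scheme.Modules.pullback j).obj F1)
    haveI : Coh.IsQCoh F1 := Groth.Agent.QC.isQCoh_pullback _ ‹_›
    haveI : Coh.IsQCoh ((Scheme.Modules.pullback j).obj F1) := Groth.Agent.QC.isQCoh_pullback _ ‹_›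
    haveI : Coh.IsQCoh FW := Groth.Agent.QC.isQCoh_pullback _ ‹_›
    have hFW : CohB1.IsFP FW :=
      ModDesc.isFP_pullback _ ‹_› (ModDesc.isFP_pullback _ ‹_› (ModDesc.isFP_pullback _ ‹_› hF))
    have h0 := isLocallyConstructible_qflat_spec fW hV' FW hFW
    convert h0 using 1
    ext w
    show QFlat f h F (W.ι w) ↔ QFlat fW hV' FW w
    rw [qflat_baseChange hXsq hYsq _ (Iso.refl FW) w, qflat_openX (f ∣_ V) (V.ι ≫ h) j F1,
      qflat_openY h (isPullback_morphismRestrict f V).flip F, ← Scheme.Hom.comp_apply, ← Scheme.Hom.comp_apply]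
    simp only [j, Scheme.homOfLE_ι, Category.id_comp]
  choose W hxW hW using key
  exact IsLocallyConstructible.of_isOpenCover (U := W)
    (eq_top_iff.2 fun x _ => Opens.mem_iSup.2 ⟨x, hxW x⟩) hW

end Groth.Agent.ConsFibFlat
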