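import Groth.Agent.ConsFibFlat.Basic
import Groth.Agent.S4847
import Groth.Agent.S4863
import Groth.Agent.S4698
import Groth.Agent.S0414
import Groth.Agent.S2396
import Groth.Agent.LocFree.Props
import Groth.Agent.ModDesc.Iso

/-!
# The fibrewise flat locus over a noetherian base
-/

set_option autoImplicit false
set_option maxSynthPendingDepth 3
set_option linter.style.haveILetI false
set_option backward.isDefEq.respectTransparency false

universe u

open CategoryTheory CategoryTheory.Limits AlgebraicGeometry TopologicalSpace Topology IsLocalRing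

noncomputable section

namespace Groth.Agent.ConsFibFlat

variable {X Y S : Scheme.{u}}

theorem qflat_of_subsingleton (f : X ⟶ Y) (h : Y ⟶ S) (F : X.Modules) (x : X)
    [Subsingleton (F.presheaf.stalk x)] : QFlat f h F x := by
  letI := FlatMod.moduleStalkOver f F x
  show Module.Flat _ _
  haveI : ∀ (p : Submodule (Y.presheaf.stalk (f x)) (F.presheaf.stalk x)), Subsingleton (_ ⧸ p) := fun p =>
    Function.Surjective.subsingleton (Submodule.mkQ_surjective p)
  infer_instance

theorem isFlatOverAt_of_subsingleton (f : X ⟶ Y) (F : X.Modules) (x : X)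
    [Subsingleton (F.presheaf.stalk x)] : FlatMod.IsFlatOverAt f F x := by
  letI := FlatMod.moduleStalkOver f F x
  show Module.Flat _ _
  infer_instance

/-- Over a nonempty open of an integral base the fibrewise condition is flatness. -/
theorem exists_open_qflat_iff [IsIntegral S] [IsNoetherian S] (f : X ⟶ Y) (h : Y ⟶ S) [LocallyOfFiniteType h]
    [QuasiCompact h] [LocallyOfFiniteType (f ≫ h)] [QuasiCompact (f ≫ h)] (F : X.Modules) (hF : Coh.IsCoh F) :
    ∃ U : S.Opens, (U : Set S).Nonempty ∧ ∀ x : X, h (f x) ∈ U →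
      (QFlat f h F x ↔ FlatMod.IsFlatOverAt f F x) := by
  haveI := LocallyOfFiniteType.isLocallyNoetherian h
  haveI := LocallyOfFiniteType.isLocallyNoetherian (f ≫ h)
  obtain ⟨U₁, ⟨s₁, hs₁⟩, hU₁⟩ := S4698.result (f ≫ h) F hF
  obtain ⟨U₂, hU₂, hflat, -⟩ := S0414.result h
  obtain ⟨s, hs⟩ := hU₂.inter_open_nonempty _ U₁.2 ⟨s₁, hs₁⟩
  refine ⟨U₁ ⊓ U₂, ⟨s, hs⟩, fun x hx => ?_⟩
  rcases subsingleton_or_nontrivial (F.presheaf.stalk x) with hn | hn
  · exact iff_of_true (qflat_of_subsingleton f h F x) (isFlatOverAt_of_subsingleton f F x)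
  have h1 : FlatMod.IsFlatOverAt (f ≫ h) F x := hU₁ x (by rw [Scheme.Hom.comp_apply]; exact hx.1)
  have h2 : (h.stalkMap (f x)).hom.Flat := by
    let y : ↥(h ⁻¹ᵁ U₂) := ⟨f x, hx.2⟩
    exact (RingHom.Flat.respectsIso.arrow_mk_iso_iff (morphismRestrictStalkMap h U₂ y)).1
      (@Flat.stalkMap _ _ (h ∣_ U₂) hflat y)
  have key := S4847.result f h F hF x hn
  exact ⟨fun hq => (key.1 ⟨h1, hq⟩).2, fun hf => (key.2 ⟨h2, hf⟩).2⟩

theorem isConstructible_qflat_noetherian {A : CommRingCat.{u}} [IsNoetherianRing A] (f : X ⟶ Y) (h : Y ⟶ Spec A)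
    [LocallyOfFiniteType h] [QuasiCompact h] [LocallyOfFiniteType (f ≫ h)] [QuasiCompact (f ≫ h)] (F : X.Modules)
    [Coh.IsQCoh F] (hF : CohB1.IsFP F) : IsConstructible {x : X | QFlat f h F x} := by
  haveI := LocallyOfFiniteType.isLocallyNoetherian (f ≫ h)
  haveI := LocallyOfFiniteType.isLocallyNoetherian h
  haveI : CompactSpace X := QuasiCompact.compactSpace_of_compactSpace (f ≫ h)
  haveI : IsNoetherian X := ⟨⟩
  haveI : NoetherianSpace X := inferInstance
  rw [S2396.result]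
  intro Z hZc hZi
  let η : X := hZi.genericPoint
  have hη : ∀ z ∈ Z, η ⤳ z := fun z hz => hZi.isGenericPoint_genericPoint_closure.specializes (subset_closure hz)
  have hηZ : η ∈ Z := by
    rw [← hZc.closure_eq]; exact hZi.isGenericPoint_genericPoint_closure.mem
  let p : PrimeSpectrum A := (f ≫ h) η
  haveI : IsDomain (A ⧸ p.asIdeal) := Ideal.Quotient.isDomain _
  haveI : IsNoetherianRing (A ⧸ p.asIdeal) := isNoetherianRing_of_surjective A _ (Ideal.Quotient.mk p.asIdeal) Ideal.Quotient.mk_surjective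
  let S' : Scheme.{u} := Spec (CommRingCat.of (A ⧸ p.asIdeal))
  let qS : S' ⟶ Spec A := Spec.map (CommRingCat.ofHom (Ideal.Quotient.mk p.asIdeal))
  haveI : IsClosedImmersion qS := IsClosedImmersion.spec_of_surjective _ Ideal.Quotient.mk_surjective
  haveI : IsIntegral S' := inferInstance
  haveI : IsNoetherian S' := inferInstance
  let qY := pullback.fst h qS
  let h' := pullback.snd h qS
  let qX := pullback.fst f qY
  let f' := pullback.snd f qY
  have hY : IsPullback qY h' h qS := IsPullback.of_hasPullback h qS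
  have hX : IsPullback qX f' f qY := IsPullback.of_hasPullback f qY
  have hXY := hX.paste_vert hY
  haveI : LocallyOfFiniteType (f' ≫ h') :=
    MorphismProperty.of_isPullback hXY ‹LocallyOfFiniteType (f ≫ h)›
  haveI : QuasiCompact (f' ≫ h') := MorphismProperty.of_isPullback hXY ‹QuasiCompact (f ≫ h)›
  haveI : LocallyOfFiniteType f' := locallyOfFiniteType_of_comp f' h'
  haveI := LocallyOfFiniteType.isLocallyNoetherian h'
  haveI : IsClosedImmersion qX := MorphismProperty.of_isPullback hXY.flip ‹IsClosedImmersion qS›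
  let F' := (Scheme.Modules.pullback qX).obj F
  haveI : Coh.IsQCoh F' := Groth.Agent.QC.isQCoh_pullback _ ‹_›
  have hF' : CohB1.IsFP F' := ModDesc.isFP_pullback qX ‹_› hF
  obtain ⟨U₀, ⟨s₀, hs₀⟩, hU₀⟩ := exists_open_qflat_iff f' h' F' ⟨‹_›, ModDesc.isFT_of_isFP hF'⟩
  have hmem : ∀ z ∈ Z, z ∈ Set.range qX := fun z hz => by
    have hp : p ⤳ ((f ≫ h) z : PrimeSpectrum A) := (hη z hz).map (f ≫ h).continuous
    have : ((f ≫ h) z) ∈ Set.range qS := by
      show _ ∈ Set.range (PrimeSpectrum.comap (Ideal.Quotient.mk p.asIdeal))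
      rw [range_comap_of_surjective _ _ Ideal.Quotient.mk_surjective, Ideal.mk_ker, PrimeSpectrum.mem_zeroLocus]
      exact (PrimeSpectrum.le_iff_specializes _ _).2 hp
    obtain ⟨t, ht⟩ := this
    obtain ⟨w, hw, -⟩ := Scheme.Pullback.exists_preimage_pullback z t (f := f ≫ h) (g := qS) ht.symm
    exact ⟨hXY.isoPullback.inv w, by rw [← Scheme.Hom.comp_apply, hXY.isoPullback_inv_fst]; exact hw⟩
  obtain ⟨η', hη'⟩ := hmem η hηZ
  have hgen : h' (f' η') = genericPoint S' := by
    refine qS.isEmbedding.injective ?_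
    have e1 : qS (h' (f' η')) = p := by
      rw [← Scheme.Hom.comp_apply, ← Scheme.Hom.comp_apply, ← hY.w, ← Category.assoc, ← hX.w,
        Category.assoc, Scheme.Hom.comp_apply, hη']
    rw [e1]
    have hb : (genericPoint S' : PrimeSpectrum (A ⧸ p.asIdeal)).asIdeal = ⊥ := by
      rw [genericPoint_eq_bot_of_affine]; rfl
    refine PrimeSpectrum.ext ?_
    show p.asIdeal = Ideal.comap (Ideal.Quotient.mk p.asIdeal) (genericPoint S' : PrimeSpectrum (A ⧸ p.asIdeal)).asIdeal
    rw [hb, ← RingHom.ker_eq_comap_bot, Ideal.mk_ker]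
  let O' := {x' : ↥(pullback f qY) | FlatMod.IsFlatOverAt f' F' x'}
  have hO' : IsOpen O' := S4863.result f' F' hF'
  let B' : Set ↥(pullback f qY) := (f' ≫ h') ⁻¹' (U₀ : Set S')
  have hB' : IsOpen B' := U₀.2.preimage (f' ≫ h').continuous
  have hηB : η' ∈ B' := by
    show (f' ≫ h') η' ∈ U₀
    rw [Scheme.Hom.comp_apply, hgen]
    exact ((genericPoint_spec S').specializes trivial).mem_open U₀.2 hs₀
  have hiff : ∀ x' ∈ B', (QFlat f h F (qX x') ↔ x' ∈ O') := fun x' hx' => by
    rw [← qflat_baseChange hX hY F (Iso.refl F') x']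
    exact hU₀ x' (by simpa [B'] using hx')
  by_cases hE : η' ∈ O'
  · right
    obtain ⟨U, hU, hUW⟩ := qX.isEmbedding.isInducing.isOpen_iff.1 (hO'.inter hB')
    refine ⟨U, hU, ⟨η, ?_, hηZ⟩, fun z ⟨hzU, hzZ⟩ => ?_⟩
    · rw [← hη']
      exact (Set.ext_iff.1 hUW η').2 ⟨hE, hηB⟩
    · obtain ⟨z', rfl⟩ := hmem z hzZ
      have hz := (Set.ext_iff.1 hUW z').1 hzU
      exact (hiff z' hz.2).2 hz.1
  · left
    obtain ⟨U, hU, hUW⟩ := qX.isEmbedding.isInducing.isOpen_iff.1 hB'
    have hdisj : ∀ z ∈ Z, z ∈ U → ¬ QFlat f h F z := fun z hzZ hzU hq => by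
      obtain ⟨z', rfl⟩ := hmem z hzZ
      refine hE (Specializes.mem_open ?_ hO' ((hiff z' ((Set.ext_iff.1 hUW z').1 hzU)).1 hq))
      rw [← qX.isEmbedding.isInducing.specializes_iff, hη']
      exact hη _ hzZ
    rw [IsNowhereDense, Set.eq_empty_iff_forall_notMem]
    intro z hz
    have hUz : η ∈ U := by rw [← hη']; exact (Set.ext_iff.1 hUW η').2 hηB
    obtain ⟨V, hV, hVz⟩ := isOpen_induced_iff.1 (isOpen_interior (s := closure (Subtype.val ⁻¹' {x : X | QFlat f h F x} : Set Z)))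
    have hzV : z.1 ∈ V := (Set.ext_iff.1 hVz z).2 hz
    have hηV : η ∈ V := (hη z.1 z.2).mem_open hV hzV
    have hcl : (⟨η, hηZ⟩ : Z) ∈ closure (Subtype.val ⁻¹' {x : X | QFlat f h F x}) :=
      interior_subset ((Set.ext_iff.1 hVz ⟨η, hηZ⟩).1 hηV)
    obtain ⟨w, hwU, hwE⟩ := mem_closure_iff.1 hcl _ (hU.preimage continuous_subtype_val) hUz
    exact hdisj w.1 w.2 hwU hwE

end Groth.Agent.ConsFibFlat
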